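import Mathlib
import Cfsg.Agent.PrimeDegDihedral.PairChar
import Cfsg.Agent.PrimeDegree.Degree
import Cfsg.Agent.PrimeDegree.Normalizer
import Cfsg.Agent.DefectOne.Bridge
import Cfsg.Agent.BrauerReynolds.Values
import Cfsg.Agent.S0157

/-!
Transitive groups of prime degree `p` with a Sylow normaliser of order `2 p`: the exceptional characters agree
with the fixed point number minus two on regular elements, so only the identity fixes three points.
-/

set_option autoImplicit false
set_option linter.style.haveILetI false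
set_option linter.unusedSectionVars false

namespace CfsgLib.PrimeDegDihedral

open Cfsg CfsgLib.CharBasics CfsgLib.DefectOne MulAction
open scoped ComplexConjugate

universe u

variable {α : Type u} [Fintype α] [DecidableEq α] {p : ℕ} [Fact p.Prime]

/-- A solvable transitive group of prime degree has a normal Sylow subgroup. -/
theorem normal_of_solvable (hα : Fintype.card α = p) (G : Subgroup (Equiv.Perm α)) [IsPretransitive G α]
    (hG : Group.IsSolvable G) (P : Sylow p G) : (P : Subgroup G).Normal := by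
  have hp : p.Prime := Fact.out
  obtain ⟨e, he⟩ := PrimeDegree.exists_affine_model hα G hG
  let f : G →* Cfsg.affineGroup (ZMod p) :=
    ((Equiv.permCongrHom e.symm).toMonoidHom.comp G.subtype).codRestrict _ fun g =>
      PrimeDegree.mem_affineGroup_of_isAffineMap (he g g.2)
  have hf : Function.Injective f := fun x y hxy =>
    Subtype.ext ((Equiv.permCongrHom e.symm).injective (congrArg Subtype.val hxy))
  have hdvd := (Subgroup.card_dvd_of_injective f hf).trans (PrimeDegree.card_affineGroup_dvd (p := p))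
  have h1 : Nat.card (Sylow p G) ∣ p * (p - 1) := by
    refine dvd_trans ?_ hdvd
    rw [P.card_eq_index_normalizer]
    exact Subgroup.index_dvd_card _
  have hmod : Nat.card (Sylow p G) % p = 1 := by
    have := card_sylow_modEq_one p G
    rwa [Nat.ModEq, Nat.mod_eq_of_lt hp.one_lt] at this
  have hcop : Nat.Coprime (Nat.card (Sylow p G)) p := by
    rw [Nat.coprime_comm, hp.coprime_iff_not_dvd, Nat.dvd_iff_mod_eq_zero, hmod]
    exact one_ne_zero
  have h2 := Nat.le_of_dvd (show 0 < p - 1 by have := hp.two_le; omega) (hcop.dvd_mul_left.1 h1)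
  have h3 : Nat.card (Sylow p G) < p := lt_of_le_of_lt h2 (Nat.sub_lt hp.pos one_pos)
  rw [Nat.mod_eq_of_lt h3, P.card_eq_index_normalizer] at hmod
  exact Subgroup.normalizer_eq_top_iff.1 (Subgroup.index_eq_one.1 hmod)

/-- An element with a fixed point is regular. -/
theorem regular_of_fixed (hα : Fintype.card α = p) (G : Subgroup (Equiv.Perm α)) [IsPretransitive G α]
    {g : G} {a : α} (ha : g • a = a) : ¬ p ∣ orderOf g := by
  intro hd
  have h1 : orderOf g ∣ Nat.card (stabilizer G a) := Subgroup.orderOf_dvd_natCard _ (mem_stabilizer_iff.2 ha)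
  refine PrimeDegree.not_sq_dvd hα G ?_
  rw [← Subgroup.card_mul_index (stabilizer G a), index_stabilizer_of_transitive G a,
    Nat.card_eq_fintype_card (α := α), hα, pow_two]
  exact Nat.mul_dvd_mul_right (hd.trans h1) p

theorem exists_pow_prime {G : Type*} [Group G] [Finite G] {g : G} (hg : g ≠ 1) :
    ∃ k : ℕ, (orderOf (g ^ k)).Prime := by
  obtain ⟨r, hr, m, hm⟩ := Nat.exists_prime_and_dvd (mt orderOf_eq_one_iff.1 hg)
  refine ⟨m, ?_⟩
  have hm0 : m ≠ 0 := fun e => (orderOf_pos g).ne' (by rw [hm, e, mul_zero])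
  rw [orderOf_pow' g hm0, hm, Nat.gcd_mul_left_left, Nat.mul_div_cancel _ (Nat.pos_of_ne_zero hm0)]
  exact hr

/-- A transitive non-solvable group of prime degree with a Sylow normaliser of order `2 p` is triply transitive
and only the identity fixes three points. -/
theorem fix_three (hα : Fintype.card α = p) (G : Subgroup (Equiv.Perm α)) [IsPretransitive G α]
    (hG : ¬ Group.IsSolvable G) (P : Sylow p G)
    (hN : Nat.card (Subgroup.normalizer ((P : Subgroup G) : Set G)) = 2 * p) :
    IsMultiplyPretransitive G α 3 ∧ ∀ g : G, 3 ≤ Nat.card (fixedBy α g) → g = 1 := by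
  classical
  have hp : p.Prime := Fact.out
  haveI : Fintype G := Fintype.ofFinite G
  haveI : Fintype (IrrCharacter G) := Fintype.ofFinite _
  have hp5 := PrimeDegree.five_le hα G hG
  have h3t : IsMultiplyPretransitive G α 3 :=
    PrimeDegree.three_transitive_of_even (p := p) hα G hG P (by rw [hN]; exact even_two_mul p)
  refine ⟨h3t, ?_⟩
  have h2t : IsMultiplyPretransitive G α 2 :=
    isMultiplyPretransitive_of_le (G := G) (α := α) (m := 2) (n := 3) (by norm_num)
      (by rw [Nat.card_eq_fintype_card]; omega)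
  have hcardα : Nat.card α = p := by rw [Nat.card_eq_fintype_card, hα]
  have h3 : ThreeTrans G α := by
    intro a b c a' b' c' h1 h2 h4 h1' h2' h4'
    have inj : ∀ x y z : α, x ≠ y → x ≠ z → y ≠ z → Function.Injective ![x, y, z] := by
      intro x y z hxy hxz hyz i j hij
      fin_cases i <;> fin_cases j <;> simp_all [eq_comm]
    obtain ⟨g, hg⟩ := exists_smul_eq G (⟨_, inj a b c h1 h2 h4⟩ : Fin 3 ↪ α) ⟨_, inj a' b' c' h1' h2' h4'⟩
    exact ⟨g, congrArg (fun e : Fin 3 ↪ α => e 0) hg, congrArg (fun e : Fin 3 ↪ α => e 1) hg,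
      congrArg (fun e : Fin 3 ↪ α => e 2) hg⟩
  have hP : Nat.card P = p := PrimeDegree.card_sylow hα G P
  obtain ⟨D, hD⟩ := exists_data P hP
  obtain ⟨M, hM⟩ := CfsgLib.Blocks.exists_modular hp
  have hreg := fun {g : G} {a : α} (ha : g • a = a) => regular_of_fixed hα G ha
  -- `x` has no fixed point, so its centraliser is generated by it
  have hxfix : ∀ a : α, D.x • a ≠ a := fun a ha => hreg ha (dvd_of_eq D.hx.symm)
  have hH : Nat.card D.H = 2 := by
    have h1 := D.card_normalizer
    rw [hD] at h1
    rw [show Nat.card (Subgroup.normalizer ((P : Subgroup G) : Set G)) = 2 * p from hN, mul_comm 2 p] at h1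
    exact (Nat.eq_of_mul_eq_mul_left hp.pos h1).symm
  have hV : Nat.card D.V = 1 := by
    obtain ⟨a⟩ : Nonempty α := Fintype.card_pos_iff.1 (by omega)
    have hsurj : ∀ b : α, ∃ k : ℕ, D.x ^ k • a = b := by
      have hinj : Function.Injective fun k : Fin p => D.x ^ (k : ℕ) • a := by
        have key : ∀ k l : ℕ, k < l → l < p → D.x ^ k • a ≠ D.x ^ l • a := by
          intro k l hkl hlp he
          rw [← Nat.add_sub_cancel' hkl.le, pow_add, mul_smul] at he
          refine hreg (smul_left_cancel _ he).symm ?_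
          rw [orderOf_pow' _ (by omega), D.hx, Nat.Coprime.gcd_eq_one
            (hp.coprime_iff_not_dvd.2 fun hd => absurd (Nat.le_of_dvd (by omega) hd) (by omega)), Nat.div_one]
        intro k l he
        rcases lt_trichotomy (k : ℕ) l with h | h | h
        · exact absurd he (key _ _ h l.2)
        · exact Fin.ext h
        · exact absurd he.symm (key _ _ h k.2)
      intro b
      obtain ⟨k, hk⟩ := ((Fintype.bijective_iff_injective_and_card _).2
        ⟨hinj, by rw [Fintype.card_fin, hα]⟩).2 b
      exact ⟨k, hk⟩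
    have hle : Nat.card (Subgroup.centralizer (Subgroup.zpowers D.x : Set G)) ≤ p := by
      refine le_trans (Nat.card_le_card_of_injective (fun g => (g : G) • a) fun g g' he => ?_) hcardα.le
      refine Subtype.ext (Subtype.ext (Equiv.ext fun b => ?_))
      obtain ⟨k, rfl⟩ := hsurj b
      have hc : ∀ g : Subgroup.centralizer (Subgroup.zpowers D.x : Set G),
          (g : G) • (D.x ^ k • a) = D.x ^ k • ((g : G) • a) := fun g => by
        rw [← mul_smul, ← mul_smul,
          Subgroup.mem_centralizer_iff.1 g.2 _ (Subgroup.pow_mem _ (Subgroup.mem_zpowers D.x) k)]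
      change (g : G) • (D.x ^ k • a) = (g' : G) • (D.x ^ k • a)
      rw [hc, hc]
      exact congrArg _ he
    rw [D.card_centralizer] at hle
    have := Nat.card_pos (α := D.V)
    have := Nat.le_of_mul_le_mul_left (show p * Nat.card D.V ≤ p * 1 by omega) hp.pos
    omega
  have he : Nat.card (D.U D.one) = 2 := by
    rw [D.card_U_one, ← hH, ← Subgroup.index_mul_card D.V, hV, mul_one]
  set t := (D.U D.one).index with ht
  have h2t' : 2 * t = p - 1 := he ▸ D.card_U_mul_index D.one
  -- the fixed points
  have hfix : ∀ g : G, Nat.card (fixedBy α g) = (fixSet g : Finset α).card := fun g => by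
    rw [Nat.card_eq_fintype_card, Fintype.card_of_subtype (fixSet g)]
    intro a; simp [fixSet]
  let χ : IrrCharacter G :=
    ⟨fun g => (Nat.card (fixedBy α g) : ℂ) - 1, (Cfsg.Agent.S0157.result (G := G) α (by omega)).2 h2t⟩
  have hχ : ∀ g : G, (χ : G → ℂ) g = ((fixSet g : Finset α).card : ℂ) - 1 := fun g => by
    show (Nat.card (fixedBy α g) : ℂ) - 1 = _
    rw [hfix]
  have hfix1 : (fixSet (1 : G) : Finset α).card = p := by simp [fixSet, hα]
  have hfixx : (fixSet D.x : Finset α).card = 0 := by
    rw [Finset.card_eq_zero]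
    exact Finset.filter_eq_empty_iff.2 fun a _ => hxfix a
  have hχdeg : charDegree (χ : G → ℂ) = p - 1 := by
    have h1 := apply_one (isCharacter_of_irr χ.2)
    rw [hχ, hfix1] at h1
    have : ((p - 1 : ℕ) : ℂ) = (charDegree (χ : G → ℂ) : ℂ) := by
      rw [← h1, Nat.cast_sub hp.one_le, Nat.cast_one]
    exact_mod_cast this.symm
  -- the block of `χ`
  obtain ⟨F⟩ := D.exists_family hM D.one
  have hpZ : (Nat.Prime p) := hp
  have hne : ∀ q, (F.θ q) ≠ χ ∧ F.θ q ≠ oneChar := by
    intro q
    have h1 := D.deg_theta hM F q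
    have hone : charDegree (D.one : D.V → ℂ) = 1 := by
      have := D.odeg_one
      rwa [Data.odeg, D.orb_one, Finset.card_singleton, one_mul] at this
    rw [hone, mul_one, ← D.card_U_one, he, Int.modEq_iff_dvd] at h1
    constructor
    · intro e
      rw [e, hχdeg, Nat.cast_sub hp.one_le] at h1
      have h3 : (p : ℤ) ∣ F.ε * 2 + 1 := by
        have := dvd_add h1 (dvd_refl (p : ℤ))
        push_cast at this
        ring_nf at this ⊢
        exact this
      rcases F.sign with s | s <;> rw [s] at h3
      · have := Int.le_of_dvd (by norm_num) h3; omega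
      · have := Int.le_of_dvd (by norm_num) (dvd_neg.2 h3); omega
    · intro e
      have hd1 : charDegree ((oneChar : IrrCharacter G) : G → ℂ) = 1 := by
        have h1 := apply_one (isCharacter_of_irr (oneChar : IrrCharacter G).2)
        rw [oneChar_apply] at h1
        exact_mod_cast h1.symm
      rw [e, hd1] at h1
      push_cast at h1
      rcases F.sign with s | s <;> rw [s] at h1
      · have := Int.le_of_dvd (by norm_num) h1; omega
      · have := Int.le_of_dvd (by norm_num) (dvd_neg.2 h1); omega
  have hxpt : D.x = D.pt (1, 1) := by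
    haveI : Fact (1 < p) := ⟨hp.one_lt⟩
    rw [Data.pt, ZMod.val_one, pow_one]
    simp
  have hχblk : χ ∈ D.blk D.one := by
    by_contra hb
    have h1 := D.vanish_of_not_blk (χ := χ) (fun φ => BrauerReynolds.irr_V_eq_one D hV φ ▸ hb) (g := D.x)
      (dvd_of_eq D.hx.symm)
    rw [hχ, hfixx] at h1
    norm_num at h1
  have hχrest : χ ∈ D.rest F := ⟨hχblk, fun ⟨q, hq⟩ => (hne q).1 hq⟩
  have honerest : oneChar ∈ D.rest F := ⟨D.oneChar_mem_blk, fun ⟨q, hq⟩ => (hne q).2 hq⟩
  have hχ1 : χ ≠ oneChar := fun e => by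
    have h1 := congrFun (congrArg Subtype.val e) D.x
    rw [hχ, hfixx, oneChar_apply] at h1
    norm_num at h1
  have hrest : D.rest F = {(oneChar : IrrCharacter G), χ} := by
    refine (Set.eq_of_subset_of_ncard_le ?_ ?_ (Set.toFinite _)).symm
    · intro ξ hξ
      rcases hξ with rfl | rfl
      · exact honerest
      · exact hχrest
    · rw [← Nat.card_coe_set_eq, D.card_rest hM F, he, Set.ncard_pair (Ne.symm hχ1)]
  have hdχ : D.d χ 1 D.one = 1 := by
    have h1 := D.apply_pt_rest hM F hχrest one_ne_zero 1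
    rw [← hxpt, hχ, hfixx, D.osum_one, mul_one, Nat.cast_zero, zero_sub, neg_inj] at h1
    exact_mod_cast h1.symm
  have hθ : ∀ (q : D.Idx D.one) (g : G), ¬ p ∣ orderOf g →
      (F.θ q : G → ℂ) g = ((fixSet g : Finset α).card : ℂ) - 2 := by
    have hεrel : ∀ (q : D.Idx D.one) (g : G), ¬ p ∣ orderOf g →
        (F.ε : ℂ) * (F.θ q : G → ℂ) g = 2 - ((fixSet g : Finset α).card : ℂ) := fun q g hg => by
      have h1 := D.regular_relation F q hg
      rw [hrest, finsum_mem_pair (Ne.symm hχ1), BrauerReynolds.d_oneChar D one_ne_zero, hdχ, oneChar_apply,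
        hχ g] at h1
      push_cast at h1
      linear_combination h1
    have hε : F.ε = -1 := by
      refine F.sign.resolve_left fun s => ?_
      have h1 := hεrel 1 1 (by rw [orderOf_one]; exact hp.not_dvd_one)
      rw [s, hfix1, apply_one (isCharacter_of_irr (F.θ 1).2)] at h1
      have h2 : ((charDegree (F.θ 1 : G → ℂ) + p : ℕ) : ℂ) = ((2 : ℕ) : ℂ) := by
        push_cast at h1 ⊢
        linear_combination h1
      have := Nat.cast_injective h2
      omega
    intro q g hg
    have h1 := hεrel q g hg
    rw [hε] at h1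
    push_cast at h1
    linear_combination -h1
  -- the multiplicities in the alternating square
  obtain ⟨a, b, hab⟩ := Fintype.exists_pair_of_one_lt_card (α := α) (by omega)
  haveI : Fintype (pairStab G a b) := Fintype.ofFinite _
  have hcard3 : 3 ≤ Fintype.card α := by omega
  set A : G → ℂ := alt α with hA
  have hnat : ∀ ψ : IrrCharacter G, ∃ m : ℕ, classInner A (ψ : G → ℂ) = m := fun ψ => by
    rw [hA, classInner_alt h3 hcard3 hab]
    exact classInner_characters_nat (Exceptional.isCharacter_monoidHom (pairSign hab))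
      (CharBasics.isCharacter_comp (isCharacter_of_irr ψ.2) (pairStab G a b).subtype)
  choose m hm using hnat
  set W := Finset.univ.filter fun g : G => g • a = a ∧ g • b = b with hW
  set W' := Finset.univ.filter fun g : G => g • a = b ∧ g • b = a with hW'
  have hinner : ∀ (ψ : IrrCharacter G) (c : ℕ), (∀ g ∈ W ∪ W', (ψ : G → ℂ) g = ((fixSet g : Finset α).card : ℂ) - c) →
      classInner A (ψ : G → ℂ) = 1 := by
    intro ψ c hψ
    obtain ⟨hs1, hs2⟩ := sum_fix h3 hcard3 hab
    have hw : (W.card : ℂ) ≠ 0 := Nat.cast_ne_zero.2 (Finset.card_ne_zero.2 ⟨1, by simp [hW]⟩)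
    have hw' : W'.card = W.card := card_pair_fiber h3 hcard3 hab hab.symm
    have hψc : IsClassFunction G fun g => conj ((ψ : G → ℂ) g) := fun g k =>
      congrArg (starRingEnd ℂ) (isClassFunction (isCharacter_of_irr ψ.2) g k)
    have hL := sum_alt_mul h3 hcard3 hab _ hψc
    rw [← hW, ← hW', Finset.sum_congr rfl (s₁ := W) (g := fun g => ((fixSet g : Finset α).card : ℂ) - c) (fun g hg => by
        rw [hψ g (Finset.mem_union_left _ hg), map_sub, Complex.conj_natCast, Complex.conj_natCast]),
      Finset.sum_congr rfl (s₁ := W') (g := fun g => ((fixSet g : Finset α).card : ℂ) - c) (fun g hg => by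
        rw [hψ g (Finset.mem_union_right _ hg), map_sub, Complex.conj_natCast, Complex.conj_natCast]),
      Finset.sum_sub_distrib, Finset.sum_sub_distrib, Finset.sum_const, Finset.sum_const, hw'] at hL
    simp only [← Nat.cast_sum, hW, hW', hs1, hs2] at hL
    simp only [← hW] at hL
    rw [classInner_eq, Nat.card_eq_fintype_card, card_group h3 hcard3 hab, ← hW]
    have h2 : ∑ g : G, A g * conj ((ψ : G → ℂ) g) = ((Finset.univ : Finset α).offDiag.card : ℂ) * W.card := by
      have h4 : ∑ g : G, 2 * alt α g * conj ((ψ : G → ℂ) g) = 2 * ∑ g : G, A g * conj ((ψ : G → ℂ) g) := by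
        rw [Finset.mul_sum]
        exact Finset.sum_congr rfl fun g _ => by rw [hA]; ring
      rw [h4] at hL
      push_cast at hL
      linear_combination hL / 2
    rw [h2, Nat.cast_mul, inv_mul_cancel₀ (mul_ne_zero (Nat.cast_ne_zero.2
      (Finset.card_ne_zero.2 ⟨(a, b), by simp [hab]⟩)) hw)]
  have hregH : ∀ g ∈ W ∪ W', ¬ p ∣ orderOf g := by
    intro g hg hd
    rcases Finset.mem_union.1 hg with h | h
    · exact hreg (Finset.mem_filter.1 h).2.1 hd
    · obtain ⟨h1, h2⟩ := (Finset.mem_filter.1 h).2
      refine hreg (g := g ^ 2) (a := a) (by rw [sq, mul_smul, h1, h2]) ?_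
      rw [orderOf_pow' g two_ne_zero]
      refine (Nat.dvd_div_iff_mul_dvd (Nat.gcd_dvd_left _ _)).2 ?_
      refine Nat.Coprime.mul_dvd_of_dvd_of_dvd ?_ (Nat.gcd_dvd_left _ _) hd
      exact Nat.Coprime.coprime_dvd_left (Nat.gcd_dvd_right _ _)
        ((Nat.coprime_primes Nat.prime_two hp).2 (by omega))
  set S : Finset (IrrCharacter G) := insert χ (Finset.univ.image F.θ) with hS
  have hS1 : ∀ ψ ∈ S, classInner A (ψ : G → ℂ) = 1 := by
    intro ψ hψ
    rcases Finset.mem_insert.1 hψ with rfl | hψ
    · exact hinner _ 1 fun g _ => by rw [hχ g]; norm_num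
    · obtain ⟨q, -, rfl⟩ := Finset.mem_image.1 hψ
      exact hinner _ 2 fun g hg => by rw [hθ q g (hregH g hg)]; norm_num
  have hm1 : ∀ ψ ∈ S, m ψ = 1 := fun ψ hψ => by exact_mod_cast (hm ψ).symm.trans (hS1 ψ hψ)
  have hexp : A = ∑ ψ : IrrCharacter G, (m ψ : ℂ) • (ψ : G → ℂ) := by
    conv_lhs => rw [classFun_expand (f := A) isClassFunction_alt]
    exact Finset.sum_congr rfl fun ψ _ => by rw [hm]
  have hA1 : 2 * A 1 = ((p : ℂ) * p - p) := by
    have h1 : (swapSet (1 : G) : Finset (α × α)) = ∅ := by
      rw [swapSet, Finset.filter_eq_empty_iff]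
      rintro q - ⟨h1, h2, -⟩
      rw [one_smul] at h2
      exact h1 h2
    rw [hA, alt, h1, Finset.offDiag_card, hfix1, Finset.card_empty, Nat.cast_zero, sub_zero,
      mul_div_cancel₀ _ two_ne_zero, Nat.cast_sub (Nat.le_mul_self p), Nat.cast_mul]
  have hθdeg : ∀ q, charDegree (F.θ q : G → ℂ) = p - 2 := fun q => by
    have h1 := hθ q 1 (by rw [orderOf_one]; exact hp.not_dvd_one)
    rw [hfix1, apply_one (isCharacter_of_irr (F.θ q).2)] at h1
    have : (charDegree (F.θ q : G → ℂ) : ℂ) = ((p - 2 : ℕ) : ℂ) := by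
      rw [h1, Nat.cast_sub hp.two_le, Nat.cast_ofNat]
    exact_mod_cast this
  have hnotS : χ ∉ Finset.univ.image F.θ := fun h => by
    obtain ⟨q, -, hq⟩ := Finset.mem_image.1 h
    exact (hne q).1 hq
  have hzero : ∀ ψ ∉ S, m ψ = 0 := by
    have hsum : ∑ ψ : IrrCharacter G, m ψ * charDegree (ψ : G → ℂ) = ∑ ψ ∈ S, m ψ * charDegree (ψ : G → ℂ) := by
      have hSdeg : ∑ ψ ∈ S, m ψ * charDegree (ψ : G → ℂ) = (p - 1) + t * (p - 2) := by
        rw [Finset.sum_congr rfl (fun ψ hψ => by rw [hm1 ψ hψ, one_mul]), hS, Finset.sum_insert hnotS, hχdeg,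
          Finset.sum_image (fun q _ q' _ e => F.inj e), Finset.sum_congr rfl (fun q _ => hθdeg q), Finset.sum_const,
          Finset.card_univ, D.card_Idx, smul_eq_mul]
      have h1 := congrFun hexp 1
      simp only [Finset.sum_apply, Pi.smul_apply, smul_eq_mul,
        apply_one (isCharacter_of_irr (Subtype.property _))] at h1
      rw [h1] at hA1
      have h2 : 2 * (∑ ψ : IrrCharacter G, m ψ * charDegree (ψ : G → ℂ)) + p = p * p := by
        have : ((2 * (∑ ψ : IrrCharacter G, m ψ * charDegree (ψ : G → ℂ)) + p : ℕ) : ℂ) = ((p * p : ℕ) : ℂ) := by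
          push_cast
          linear_combination hA1
        exact_mod_cast this
      rw [hSdeg]
      obtain ⟨q, rfl⟩ : ∃ q, p = q + 2 := ⟨p - 2, by omega⟩
      rw [show q + 2 - 1 = q + 1 by omega] at h2t'
      rw [show q + 2 - 1 = q + 1 by omega, Nat.add_sub_cancel]
      have h3 : 2 * (t * q) = (q + 1) * q := by rw [← mul_assoc, h2t']
      nlinarith
    intro ψ hψ
    rw [← Finset.sum_sdiff (Finset.subset_univ S), add_eq_right] at hsum
    have := Finset.sum_eq_zero_iff.1 hsum ψ (by simp [hψ])
    exact (Nat.mul_eq_zero.1 this).resolve_right (charDegree_pos ψ.2).ne'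
  have hAval : ∀ g : G, ¬ p ∣ orderOf g →
      A g = ((fixSet g : Finset α).card : ℂ) - 1 + (t : ℂ) * (((fixSet g : Finset α).card : ℂ) - 2) := by
    intro g hg
    rw [congrFun hexp g, Finset.sum_apply, ← Finset.sum_subset (Finset.subset_univ S) (fun ψ _ hψ => by
        rw [hzero ψ hψ]; simp),
      Finset.sum_congr rfl (fun ψ hψ => by rw [hm1 ψ hψ, Pi.smul_apply, Nat.cast_one, one_smul]), hS,
      Finset.sum_insert hnotS, hχ g, Finset.sum_image (fun q _ q' _ e => F.inj e),
      Finset.sum_congr rfl (fun q _ => hθ q g hg), Finset.sum_const, Finset.card_univ, D.card_Idx, nsmul_eq_mul]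
  -- only the identity fixes three points
  intro g hg
  by_contra hg1
  obtain ⟨k, hk⟩ := exists_pow_prime hg1
  set y := g ^ k with hy
  set r := orderOf y with hr
  have hy1 : y ≠ 1 := fun e => hk.ne_one (by rw [hr, e, orderOf_one])
  set f := (fixSet y : Finset α).card with hf
  have hf3 : 3 ≤ f := by
    rw [hfix] at hg
    refine hg.trans (Finset.card_le_card fun a ha => ?_)
    simp only [fixSet, Finset.mem_filter, Finset.mem_univ, true_and] at ha ⊢
    exact mem_stabilizer_iff.1 (Subgroup.pow_mem _ (mem_stabilizer_iff.2 ha) k)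
  have hfp : f < p := by
    rw [← hα]
    refine Finset.card_lt_univ_of_notMem (x := ?_) ?_
    · exact Classical.choose (show ∃ a : α, y • a ≠ a from by
        by_contra hc; push Not at hc; exact hy1 (Subtype.ext (Equiv.ext hc)))
    · simp only [fixSet, Finset.mem_filter, Finset.mem_univ, true_and]
      exact Classical.choose_spec (p := fun a : α => y • a ≠ a) _
  have hyreg : ¬ p ∣ orderOf y := by
    obtain ⟨a, ha⟩ := Finset.card_pos.1 (show 0 < f by omega)
    exact hreg (Finset.mem_filter.1 ha).2
  have hval := hAval y hyreg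
  have ht' : 2 * (t : ℂ) = (p : ℂ) - 1 := by
    have : ((2 * t : ℕ) : ℂ) = ((p - 1 : ℕ) : ℂ) := by rw [h2t']
    rwa [Nat.cast_mul, Nat.cast_sub hp.one_le, Nat.cast_one, Nat.cast_ofNat] at this
  rw [hA, alt, Finset.offDiag_card, ← hf, Nat.cast_sub (Nat.le_mul_self f), Nat.cast_mul, div_eq_iff two_ne_zero] at hval
  rcases eq_or_ne r 2 with hr2 | hr2
  · have hs : (swapSet y : Finset (α × α)).card + f = p := by
      have hy2 : y * y = 1 := by rw [← sq, ← hr2, hr, pow_orderOf_eq_one]
      have : (swapSet y : Finset (α × α)).card = (Finset.univ \ fixSet y : Finset α).card := by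
        refine Finset.card_bij (fun q _ => q.1) (fun q hq => ?_) (fun q hq q' hq' e => ?_) fun a ha => ⟨(a, y • a), ?_, rfl⟩
        · simp only [swapSet, fixSet, Finset.mem_filter, Finset.mem_univ, true_and, Finset.mem_sdiff] at hq ⊢
          exact fun e => hq.1 (e.symm.trans hq.2.1)
        · simp only [swapSet, Finset.mem_filter, Finset.mem_univ, true_and] at hq hq'
          exact Prod.ext e (hq.2.1.symm.trans (by rw [e, hq'.2.1]))
        · simp only [swapSet, fixSet, Finset.mem_filter, Finset.mem_univ, true_and, Finset.mem_sdiff] at ha ⊢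
          exact ⟨Ne.symm ha, by rw [← mul_smul, hy2, one_smul]⟩
      rw [this, Finset.card_univ_sdiff, hα, ← hf]
      omega
    have hs' : ((swapSet y : Finset (α × α)).card : ℂ) = (p : ℂ) - f := by
      rw [eq_sub_iff_add_eq]; exact_mod_cast hs
    have : ((f : ℂ) - 1) * ((f : ℂ) - p) = 0 := by
      linear_combination hval + hs' + ((f : ℂ) - 2) * ht'
    rcases mul_eq_zero.1 this with e | e
    · have : (f : ℂ) = ((1 : ℕ) : ℂ) := by rw [Nat.cast_one]; linear_combination e
      have := Nat.cast_injective this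
      omega
    · have := Nat.cast_injective (sub_eq_zero.1 e)
      omega
  · have hs : (swapSet y : Finset (α × α)) = ∅ := by
      rw [swapSet, Finset.filter_eq_empty_iff]
      rintro q - ⟨h1, h2, h4⟩
      have hodd : r.Coprime 2 := (Nat.coprime_primes hk Nat.prime_two).2 hr2
      obtain ⟨j, hj⟩ := exists_pow_eq_self_of_coprime (x := y) hodd.symm
      have hy2 : y ^ 2 ∈ stabilizer G q.1 := mem_stabilizer_iff.2 (by rw [sq, mul_smul, h2, h4])
      have := Subgroup.pow_mem _ hy2 j
      rw [hj, mem_stabilizer_iff, h2] at this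
      exact h1 this.symm
    rw [hs, Finset.card_empty, Nat.cast_zero, sub_zero] at hval
    have : ((f : ℂ) - 2) * ((f : ℂ) - p) = 0 := by
      linear_combination hval + ((f : ℂ) - 2) * ht'
    rcases mul_eq_zero.1 this with e | e
    · have : (f : ℂ) = ((2 : ℕ) : ℂ) := by rw [Nat.cast_ofNat]; linear_combination e
      have := Nat.cast_injective this
      omega
    · have := Nat.cast_injective (sub_eq_zero.1 e)
      omega

end CfsgLib.PrimeDegDihedral
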